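import Cfsg.Agent.HZ.L.X.Defs
import Cfsg.Agent.HZ.L.U.Box

/-!
# OM/On: the labels of an irreducible character are conjugate; all characteristics (helper66): definitions and boxes

The engine of `HZ/L` with the size `2 * nb D`.  `On1 D` : all labels of an irreducible character are conjugate, `OnS D` : this
holds for the proper Levi subgroups.
-/

set_option autoImplicit false
set_option linter.unusedSectionVars false

namespace Cfsg.Agent.OM.On

open Cfsg Cfsg.Agent.DL Cfsg.Agent.DL.PP Cfsg.Agent.DL.Uni Cfsg.Agent.DL.Asm Cfsg.Agent.Nodes.Reps Matrix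
  Cfsg.Agent.KZ.Lie Cfsg.Agent.HZ.Gen Cfsg.Agent.ODD.Red Cfsg.Agent.HZ.L
open Cfsg.Agent.HZ.L.X (Isol PE Cen Zc)
open Cfsg.Agent.LV.Cl (SG sw tt)

section Comb

variable {R : Type} [Fintype R] [DecidableEq R]

/-- components of type `A` and one classical component, all ranks -/
def Cl (Ψ : RS R) : Prop := ∃ (n : ℕ) (κ : Kd) (blk : Fin n → ℕ), Iso Ψ (std κ blk)

/-- proper Levi subsystems of `E₈` -/
def TE (Ψ : RS R) : Prop := ∃ lam, lev U.PE8 lam ≠ U.PE8 ∧ Iso Ψ (lev U.PE8 lam)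

/-- the types -/
def Ty (Ψ : RS R) : Prop := Cl Ψ ∨ TE Ψ

/-- the types of the proper Levi subsystems -/
def Pre (Ψ : RS R) : Prop := ∀ lam, lev Ψ lam ≠ Ψ → Ty (lev Ψ lam)

/-- isolated labels are determined by the central character -/
def Tr (p : ℕ) (Ψ : RS R) : Prop := ∀ c c', Fo p c → Fo p c' → Isol Ψ c → Isol Ψ c' → PE Ψ c c' → Cj Ψ c c'

/-- all components are of type `A₁` or `B₂` -/
def NoA (Ψ : RS R) : Prop := ∀ a ∈ Ψ, ∀ b ∈ Ψ, Even ((a.1 ⬝ᵥ b.2) * (b.1 ⬝ᵥ a.2))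

end Comb

/-- (pure) the multiplicity function of an isolated label with the colours `x`; `R` is the set of the reflections -/
structure Cy {n : ℕ} (x : Fin n → Bool) (R : Finset (SG n)) (y : SG n → ℂ) : Prop where
  mem : ∀ t ∈ R, (∃ i l e, i ≠ l ∧ x i = x l ∧ t = sw i l e) ∨ ∃ i, t = tt i
  sw_mem : ∀ i l e, i ≠ l → x i = x l → sw i l e ∈ R
  inv : ∀ t ∈ R, ∀ g, y (t * g * t) = y g
  supp : ∀ g, y g ≠ 0 → ∀ i, x (g.π i) = x i
  cas : ∀ g, y g = 0 → ∑ t ∈ R, y (t * g) = 0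

/-- (pure) **no cuspidal eigenvector misses two of the eigenvalues `1`, `-1`, `i`** -/
structure BoxPure : Prop where
  pm : ∀ {n : ℕ} (x : Fin n → Bool) (R : Finset (SG n)) (y : SG n → ℂ), 0 < n → Cy x R y →
    (∀ g, y g ≠ 0 → XC.NoE 1 g) → (∀ g, y g ≠ 0 → XC.NoE (-1) g) → y = 0
  im : ∀ {n : ℕ} (x : Fin n → Bool) (R : Finset (SG n)) (y : SG n → ℂ) (μ : ℤ), μ * μ = 1 → R.Nonempty → Cy x R y →
    (∀ g, y g ≠ 0 → XC.NoE μ g) → (∀ g, y g ≠ 0 → ∀ i, g.π i ≠ i → g.π (g.π i) = i → g.s i = g.s (g.π i)) → y = 0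

variable {p : ℕ} [Fact p.Prime] {k : Type} [Field k] [CharP k p] [IsAlgClosed k] {Y : Type} [Group Y] {N : Type}
  [Fintype N] [DecidableEq N] {ρ : Y →* GL N k} {F : MulAut Y} {G : Subgroup Y} (D : Datum p ρ F G)

/-- the weak form of `St` (also the groups of Suzuki and Ree, with `j = 0`) -/
structure StW (j : ℕ) (B : Mat D.R) : Prop where
  mx : D.Mx = ((p : ℤ) ^ j) • B
  qs : D.QS

/-- the size of the datum -/
noncomputable def sz1 : ℕ := 2 * nb D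

/-- huge primes -/
structure Hu1 (r : ℕ) : Prop where
  prime : r.Prime
  ne : r ≠ p
  big : bd (sz1 D) (sz1 D ^ 8) < r

variable [Fintype ↥(GF F G)]

variable {D} in
/-- `χ` corresponds to `ε η` -/
def Cor1 (s : Sb D) [Fintype ↥(GF F s.K)] (r : ℕ) (P : Subgroup ↥(GF F G)) (χ : ↥(GF F G) → ℂ) (ε : ℂ)
    (η : ↥(GF F s.K) → ℂ) : Prop :=
  (ε = 1 ∨ ε = -1) ∧ ∀ φ, Sm r (sz1 D ^ 2) φ → classInner φ χ = ε * classInner (s.rs r P φ) η

/-- **all labels of an irreducible character are conjugate** -/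
def On1 : Prop :=
  ∀ (f : Fr D) χ, IsIrrCharacter _ χ → ∀ w c w' c', Has f χ w c → Has f χ w' c' → Cj (rts D) c c'

omit [Fintype ↥(GF F G)] in
/-- `On1` for the Levi subgroups -/
def OnL : Prop := ∀ (s : Sb D) (lam : Vec D.R) [Fintype ↥(GF F s.K)], s.E.QS → rts s.E = lev (rts D) lam → On1 s.E

omit [Fintype ↥(GF F G)] in
/-- `On1` for the proper Levi subgroups -/
def OnS : Prop := ∀ (s : Sb D) (lam : Vec D.R) [Fintype ↥(GF F s.K)], s.E.QS → rts s.E = lev (rts D) lam →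
  lev (rts D) lam ≠ rts D → On1 s.E ∧ OnL s.E

variable {D}

/-- a common eigenvalue links two labels -/
def Lk (B : Mat D.R) (f : Fr D) (χ : ↥(GF F G) → ℂ) : Prop := ∀ w c w' c' μ, Has f χ w c → Has f χ w' c' →
  Eig (rts D) (D.Wm w * B) μ → Eig (rts D) (D.Wm w' * B) μ → Cj (rts D) c c'

/-- exactness on a factor -/
def Cr1 (B : Mat D.R) (f : Fr D) (χ : ↥(GF F G) → ℂ) : Prop := ∀ Ψ₁ Ψ₂, Dec (rts D) Ψ₁ Ψ₂ B → Ψ₂.Nonempty →
  ∀ w c w' c', Has f χ w c → Has f χ w' c' → ∃ h ∈ WW Ψ₁, ∀ v, Perp Ψ₂ v → chr (h *ᵥ v) c' = chr v c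

variable (D)

/-- **the base case**: all labels are isolated -/
def B0 (B : Mat D.R) : Prop := ∀ (f : Fr D) χ, IsIrrCharacter _ χ → Lk B f χ → Cr1 B f χ →
  (∀ w c, Has f χ w c → Isol (rts D) c) → ∀ w c w' c', Has f χ w c → Has f χ w' c' → PE (rts D) c c' → Cj (rts D) c c'

/-- there are huge primes for all eigenvalues -/
def Rich1 (B : Mat D.R) (χ : ↥(GF F G) → ℂ) : Prop :=
  ∀ w μ, Eig (rts D) (D.Wm w * B) μ → ∃ r, Hu1 D r ∧ Pr D B r μ ∧ RatR r χ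

/-- the classical types -/
def BoxCl : Prop := ∀ j B, St D j B → Cz p (rts D) → Cl (rts D) → B0 D B

/-- `E₆`, `E₆ A₁`, `E₇` -/
def BoxE : Prop := ∀ j B, St D j B → Cz p (rts D) → TE (rts D) → Cl (rts D) ∨ B0 D B

omit [Fintype ↥(GF F G)] in
/-- the types of Levi subsystems -/
structure BoxTy : Prop where
  iso : ∀ {R' : Type} [Fintype R'] [DecidableEq R'] (Ψ' : RS R'), Iso (rts D) Ψ' → ∀ lam, ∃ lam',
    Iso (lev (rts D) lam) (lev Ψ' lam') ∧ (lev (rts D) lam = rts D ↔ lev Ψ' lam' = Ψ')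
  ty : Ty (rts D) → ∀ lam, Ty (lev (rts D) lam)
  pre : Pre (rts D) → ∀ lam, Pre (lev (rts D) lam)
  cl : Cl (rts D) → Pre (rts D)
  e8 : Iso (rts D) U.PE8 → Pre (rts D)
  e6 : Iso (rts D) U.PE6 → TE (rts D)
  f4 : Iso (rts D) U.PF4 → Pre (rts D)
  g2 : Iso (rts D) U.PG2 → Pre (rts D)
  d4 : Iso (rts D) U.PD4 → Cl (rts D)
  e7 : Iso (rts D) (U.Ph Lie.chevE7 7 (ChevalleyStructure.CoxeterGeomTypes.cartanOf Lie.chevE7 7)) → TE (rts D)

omit [Fintype ↥(GF F G)] in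
/-- components `A₁` and `B₂` in characteristic two -/
def BoxTr : Prop := p = 2 → NoA (rts D) → Tr p (rts D)

end Cfsg.Agent.OM.On
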