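import Cfsg.Agent.OM.On.Tr
import Cfsg.Agent.OM.On.Step

/-!
# OM/On: the stable proper Levi subsystems of the Ree groups of type `F₄` (helper23)
-/

set_option autoImplicit false
set_option linter.unusedSectionVars false

namespace Cfsg.Agent.OM.On

open Cfsg Cfsg.Agent.DL Cfsg.Agent.DL.PP Matrix Cfsg.Agent.KZ.Lie Cfsg.Agent.HZ.L Cfsg.Agent.HZ.L.X
open Cfsg.Agent.Tits.Roots Cfsg.Agent.Nodes.Coroot

variable {p : ℕ} [Fact p.Prime] {k : Type} [Field k] [CharP k p] [IsAlgClosed k] {Y : Type} [Group Y] {N : Type}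
  [Fintype N] [DecidableEq N] {ρ : Y →* GL N k} {F : MulAut Y} {G : Subgroup Y} {D : Datum p ρ F G}

namespace Tr23

theorem det4 : ∀ x y z w : ZMod 2,
    (!![0, 1, 0, 0; 1, 0, 0, 0; x, y, 0, 1; z, w, 1, 0] : Matrix (Fin 4) (Fin 4) (ZMod 2)).det ≠ 0 := by decide +kernel

/-- two planes of type `A₂` with roots of different lengths span a space of dimension four -/
theorem perp_of (hI : Fintype.card D.I ≤ 4) {a b c d : D.I → ℤ} (ha : D.Rt a) (hb : D.Rt b) (hc : D.Rt c) (hd : D.Rt d)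
    (o1 : Odd (cp D a b)) (o2 : Odd (cp D b a)) (o3 : Odd (cp D c d)) (o4 : Odd (cp D d c))
    (e : ∀ x ∈ [a, b], ∀ y ∈ [c, d], Even (cp D x y)) {lam : Vec D.R} (h : ∀ x ∈ [a, b, c, d], D.wt x ⬝ᵥ lam = 0) :
    Perp (rts D) lam := by
  rintro _ ⟨r, -, rfl⟩
  let v : Fin 4 → D.I → ℤ := ![a, b, c, d]
  have hv : ∀ i, D.Rt (v i) := fun i => by fin_cases i <;> assumption
  have h0 : (of fun i j => cp D (v i) (v j)).det ≠ 0 := fun h0 => by
    have h1 := (Int.castRingHom (ZMod 2)).map_det (of fun i j => cp D (v i) (v j))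
    have z : ∀ {x : ℤ}, Even x → (x : ZMod 2) = 0 := fun h => ZMod.intCast_eq_zero_iff_even.2 h
    have o : ∀ {x : ℤ}, Odd x → (x : ZMod 2) = 1 := fun h => ZMod.intCast_eq_one_iff_odd.2 h
    have t : ∀ {x : D.I → ℤ}, D.Rt x → ((cp D x x : ℤ) : ZMod 2) = 0 := fun h => z (by rw [cp, cpr_self _ _ h]; exact even_two)
    refine det4 (cp D c a : ℤ) (cp D c b : ℤ) (cp D d a : ℤ) (cp D d b : ℤ) (Eq.trans ?_ (h1.symm.trans (by rw [h0, map_zero])))
    congr 1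
    ext i j
    fin_cases i <;> fin_cases j
    exacts [(t ha).symm, (o o1).symm, (z (e a (by simp) c (by simp))).symm, (z (e a (by simp) d (by simp))).symm,
      (o o2).symm, (t hb).symm, (z (e b (by simp) c (by simp))).symm, (z (e b (by simp) d (by simp))).symm,
      rfl, rfl, (t hc).symm, (o o3).symm, rfl, rfl, (o o4).symm, (t hd).symm]
  obtain ⟨n, h1, i, h2⟩ := Fintype.not_linearIndependent_iff.1 fun h1 : LinearIndependent ℤ (Fin.cons r v : Fin 5 → _) => by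
    have h2 := h1.fintype_card_le_finrank
    rw [Module.finrank_fintype_fun_eq_card, Fintype.card_fin] at h2
    omega
  rw [Fin.sum_univ_succ, Fin.cons_zero] at h1
  simp only [Fin.cons_succ] at h1
  have h3 : ∀ u, n 0 * (D.wt r ⬝ᵥ u) + ∑ i : Fin 4, n i.succ * (D.wt (v i) ⬝ᵥ u) = 0 := fun u => by
    simpa only [map_add, map_sum, map_zsmul, map_zero, add_dotProduct, sum_dotProduct, smul_dotProduct, smul_eq_mul,
      zero_dotProduct] using congrArg (fun x => D.wt x ⬝ᵥ u) h1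
  have h4 := h3 lam
  rw [Finset.sum_eq_zero fun i _ => by rw [h (v i) (by fin_cases i <;> simp [v]), mul_zero], add_zero] at h4
  refine (mul_eq_zero.1 h4).resolve_left fun h5 => h2 ?_
  have h6 := eq_zero_of_vecMul_eq_zero h0 (v := fun i => n i.succ) (funext fun j => by
    have h6 := h3 (D.cor (v j))
    rw [h5, zero_mul, zero_add] at h6
    simp only [wt_dot_cor D _ (hv j)] at h6
    exact h6)
  exact Fin.cases h5 (congrFun h6) i

theorem cp_g (w : D.W) {x y : D.I → ℤ} (hx : D.Rt x) (hy : D.Rt y) :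
    (p : ℤ) ^ D.ex x * cp D (D.act w (D.g y)) (D.act w (D.g x)) = (p : ℤ) ^ D.ex y * cp D y x := by
  have h1 := dotProduct_mulVec (D.wt (D.g y)) D.Mx (D.cor x)
  rwa [D.Mx_cor hx, D.wt_g hy, dotProduct_smul, smul_dotProduct, wt_dot_cor D _ (D.g_root x hx), wt_dot_cor D _ hx,
    smul_eq_mul, smul_eq_mul, cp, ← cpr_rep D.cs D.h w _ (D.g_root x hx)] at h1

theorem dvd_of_root {a b : D.I → ℤ} (ha : D.Rt a) {x y : ℤ} (h : x • a = y • b) : y ∣ x := by
  obtain ⟨w, i, rfl⟩ := ha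
  have h1 := congrFun (congrArg (D.act w⁻¹) h) i
  rw [Datum.act, Datum.act, map_smul, map_smul, rep_inv_apply] at h1
  exact ⟨_, (show x = x * 1 from (mul_one x).symm).trans (Eq.trans (by simp [sr]) h1)⟩

/-- the exponents of a very twisted endomorphism -/
theorem ex_ne {m : ℕ} (hM : D.Mx * D.Mx = ((p : ℤ) ^ (2 * m + 1)) • 1) {a : D.I → ℤ} (ha : D.Rt a) :
    D.ex a + D.ex (D.g a) = 2 * m + 1 := by
  have h1 := vecMul_vecMul (D.wt (D.g (D.g a))) D.Mx D.Mx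
  rw [hM, D.wt_g (D.g_root a ha), smul_vecMul, D.wt_g ha, vecMul_smul, vecMul_one, smul_smul, ← pow_add, ← map_zsmul,
    ← map_zsmul] at h1
  have h2 := D.wt_injective h1
  have h3 : 2 ≤ (p : ℤ) := by exact_mod_cast (Fact.out : p.Prime).two_le
  have h4 : ∀ i j : ℕ, (p : ℤ) ^ i ∣ (p : ℤ) ^ j → i ≤ j := fun i j h =>
    (pow_le_pow_iff_right₀ (by omega)).1 (Int.le_of_dvd (by positivity) h)
  have h5 := h4 _ _ (dvd_of_root ha h2)
  have h6 := h4 _ _ (dvd_of_root (D.g_root _ (D.g_root a ha)) h2.symm)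
  omega

end Tr23

open Tr23

/-- **the stable proper Levi subsystems have components `A₁` and `B₂`** -/
theorem noA_of_swap (hp : p = 2) (hI : Fintype.card D.I ≤ 4) {m : ℕ} (hM : D.Mx * D.Mx = ((p : ℤ) ^ (2 * m + 1)) • 1)
    (w : D.W) {lam : Vec D.R} (hw : ∀ a, D.Rt a → D.wt a ⬝ᵥ lam = 0 → D.wt (D.act w (D.g a)) ⬝ᵥ lam = 0)
    (hl : lev (rts D) lam ≠ rts D) : NoA (lev (rts D) lam) := by
  subst hp
  rintro _ ⟨⟨a, ha, rfl⟩, a0⟩ _ ⟨⟨b, hb, rfl⟩, b0⟩
  rw [wt_dot_cor D _ ha, wt_dot_cor D _ hb, ← Int.not_odd_iff_even, Int.odd_mul]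
  rintro ⟨o1, o2⟩
  have hc : D.Rt (D.act w (D.g a)) := (D.g_root a ha).act w
  have hd : D.Rt (D.act w (D.g b)) := (D.g_root b hb).act w
  have ev : ∀ {i j : ℕ} {x y : ℤ}, ((2 : ℕ) : ℤ) ^ i * x = ((2 : ℕ) : ℤ) ^ j * y → j < i → Even y := fun {i j x y} h e => by
    obtain ⟨l, rfl⟩ := Nat.exists_eq_add_of_lt e
    rw [add_assoc, pow_add, mul_assoc, mul_right_inj' (by positivity), pow_succ] at h
    exact ⟨_, by rw [← h, ← two_mul, mul_assoc, mul_left_comm]; rfl⟩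
  have h1 := cp_g w ha hb
  have h2 := cp_g w hb ha
  have h3 : D.ex a = D.ex b := le_antisymm (not_lt.1 fun e => Int.not_odd_iff_even.2 (ev h1 e) o2)
    (not_lt.1 fun e => Int.not_odd_iff_even.2 (ev h2 e) o1)
  rw [h3, mul_right_inj' (by positivity)] at h1 h2
  have h4 := ex_ne hM ha
  have h5 := ex_ne hM hb
  rw [← D.ex_act w (D.g_root a ha)] at h4
  rw [← D.ex_act w (D.g_root b hb)] at h5
  have c0 := hw a ha a0
  have d0 := hw b hb b0
  generalize D.act w (D.g a) = c at hc h1 h2 h4 c0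
  generalize D.act w (D.g b) = d at hd h1 h2 h5 d0
  have k1 : ∀ x ∈ [a, b], D.Rt x ∧ D.ex x = D.ex b := by simp [ha, hb, h3]
  have k2 : ∀ x ∈ [c, d], D.Rt x ∧ D.ex x = D.ex d := by simp [hc, hd, show D.ex c = D.ex d by omega]
  refine lev_ne.1 hl ?_
  rcases lt_or_gt_of_ne (show D.ex b ≠ D.ex d by omega) with e | e
  · exact perp_of hI ha hb hc hd o1 o2 (h2 ▸ o1) (h1 ▸ o2) (fun x hx y hy => ev (cp_g w (k2 y hy).1 (k1 x hx).1)
      (by rwa [(k1 x hx).2, (k2 y hy).2])) (by simpa using ⟨a0, b0, c0, d0⟩)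
  · exact perp_of hI hc hd ha hb (h2 ▸ o1) (h1 ▸ o2) o1 o2 (fun y hy x hx => ev (cp_g w (k1 x hx).1 (k2 y hy).1)
      (by rwa [(k1 x hx).2, (k2 y hy).2])) (by simpa using ⟨c0, d0, a0, b0⟩)

/-- the hypothesis of `onS_two` -/
theorem noA_sub (hp : p = 2) (hI : Fintype.card D.I ≤ 4) {m : ℕ} (hM : D.Mx * D.Mx = ((p : ℤ) ^ (2 * m + 1)) • 1)
    (s : Sb D) {lam : Vec D.R} (e : rts s.E = lev (rts D) lam) (hl : lev (rts D) lam ≠ rts D) : NoA (rts s.E) :=
  e ▸ noA_of_swap hp hI hM s.w (fun a ha h => by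
    obtain ⟨b, h1, h2⟩ := s.mem_rts.1 (e.ge ⟨rt_mem ha, h⟩)
    obtain rfl := D.wt_injective (congrArg Prod.fst h2)
    exact (e.le (s.mem_rts.2 ⟨_, s.hg a h1, rfl⟩)).2) hl

/-- **the proper Levi subgroups of the Ree groups of type `F₄`** -/
theorem onS_sw (hp : p = 2) (hI : Fintype.card D.I ≤ 4) {m : ℕ} (hM : D.Mx * D.Mx = ((p : ℤ) ^ (2 * m + 1)) • 1)
    (hz : Cz p (rts D)) : OnS D :=
  onS_two hp (fun D _ => boxTr D) hz fun s _ _ e hl => noA_sub hp hI hM s e hl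

end Cfsg.Agent.OM.On
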