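import Cfsg.Agent.OM.On.Defs
import Cfsg.Agent.HZ.L.X.Bas
import Cfsg.Agent.Lib.Cores

/-!
# OM/On: components `A₁` and `B₂` in characteristic two (helper23)

The Weyl group is a `2`-group, so isolated labels of odd order are determined by the central character.
-/

set_option autoImplicit false
set_option linter.unusedSectionVars false

namespace Cfsg.Agent.OM.On

open Cfsg Cfsg.Agent.DL Cfsg.Agent.DL.PP Matrix Cfsg.Agent.KZ.Lie Cfsg.Agent.HZ.L Cfsg.Agent.HZ.L.X
open Cfsg.Agent.Tits.Roots Cfsg.Agent.Nodes.Coroot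

variable {p : ℕ} [Fact p.Prime] {k : Type} [Field k] [CharP k p] [IsAlgClosed k] {Y : Type} [Group Y] {N : Type}
  [Fintype N] [DecidableEq N] {ρ : Y →* GL N k} {F : MulAut Y} {G : Subgroup Y} {D : Datum p ρ F G}

namespace Tr23

/-- conjugate reflections commute -/
theorem comm (h : NoA (rts D)) {a : D.I → ℤ} (ha : D.Rt a) (u w : D.W) :
    D.rf (D.act u a) * D.rf (D.act w a) = D.rf (D.act w a) * D.rf (D.act u a) := by
  have := Fintype.ofFinite D.W
  have h0 : form D.cs D.h (D.act u a) (D.act u a) = form D.cs D.h (D.act w a) (D.act w a) := by rw [form_rep, form_rep]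
  have hx : D.Rt (D.act u a) := ha.act u
  have hy : D.Rt (D.act w a) := ha.act w
  generalize D.act u a = x at h0 hx
  generalize D.act w a = y at h0 hy
  have h1 := two_form_cpr D.cs D.h x hy
  have h2 := two_form_cpr D.cs D.h y hx
  have h3 := form_pos D.cs D.h (hy.ne_zero)
  have h4 : cpr D.cs D.h y x = cpr D.cs D.h x y := by
    rw [form_comm, h1, h0] at h2
    exact (mul_right_cancel₀ h3.ne' h2).symm
  have h5 := h _ (rt_mem hx) _ (rt_mem hy)
  rw [wt_dot_cor D x hy, wt_dot_cor D y hx, cp, cp, h4, Int.even_mul, or_self] at h5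
  have h6 : form D.cs D.h (x - y) (x - y) = (2 - cpr D.cs D.h x y) * form D.cs D.h y y := by
    rw [form_sub_left, form_sub_right, form_sub_right, form_comm D.cs D.h y x]
    linarith
  have h7 : form D.cs D.h (x + y) (x + y) = (2 + cpr D.cs D.h x y) * form D.cs D.h y y := by
    rw [form_add_left, form_add_right, form_add_right, form_comm D.cs D.h y x]
    linarith
  by_cases e1 : x - y = 0
  · rw [sub_eq_zero.1 e1]
  by_cases e2 : x + y = 0
  · rw [eq_neg_of_add_eq_zero_left e2, D.rf_neg hy]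
  have h8 := (mul_pos_iff_of_pos_right h3).1 (h6 ▸ form_pos D.cs D.h e1)
  have h9 := (mul_pos_iff_of_pos_right h3).1 (h7 ▸ form_pos D.cs D.h e2)
  have h10 := D.rf_act' (D.rf x) hy
  rw [D.act_rf hx, h4, show cpr D.cs D.h x y = 0 by obtain ⟨t, ht⟩ := h5; omega, zero_smul, sub_zero] at h10
  exact (eq_mul_inv_iff_mul_eq.1 h10).symm

/-- the Weyl group is a `2`-group -/
theorem two_W (h : NoA (rts D)) : IsPGroup 2 D.W := by
  have h1 : ∀ i, D.cs.simple i ∈ pCore 2 D.W := fun i => by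
    have hi := isRoot_sr D.cs D.h i
    have h2 : ∀ x ∈ Group.conjugatesOfSet {D.cs.simple i}, ∃ u, x = D.rf (D.act u (sr i)) := fun x hx => by
      obtain ⟨_, rfl, h3⟩ := Group.mem_conjugatesOfSet_iff.1 hx
      obtain ⟨u, rfl⟩ := isConj_iff.1 h3
      exact ⟨u, (D.rf_act u i).symm⟩
    have h3 := Subgroup.isMulCommutative_closure (k := Group.conjugatesOfSet {D.cs.simple i}) fun x hx y hy => by
      obtain ⟨u, rfl⟩ := h2 x hx
      obtain ⟨w, rfl⟩ := h2 y hy
      exact comm h hi u w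
    refine Lib.Cores.le_pCore (N := Subgroup.normalClosure {D.cs.simple i}) inferInstance (fun ⟨x, hx⟩ =>
      ⟨1, Subtype.ext ?_⟩) (Subgroup.subset_normalClosure rfl)
    show x ^ 2 ^ 1 = 1
    rw [pow_one, sq]
    induction hx using Subgroup.closure_induction with
    | mem x hx =>
      obtain ⟨u, rfl⟩ := h2 x hx
      exact D.rf_mul_self (hi.act u)
    | one => exact mul_one 1
    | mul x y hx hy a b => rw [mul_assoc, ← mul_assoc y, setLike_mul_comm hy hx, mul_assoc, b, mul_one, a]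
    | inv x _ a => rw [← _root_.mul_inv_rev, a, inv_one]
  intro w
  have h2 : w ∈ pCore 2 D.W := by
    induction w using D.cs.simple_induction_left with
    | one => exact one_mem _
    | mul_simple_left w i h => exact mul_mem (h1 i) h
  exact (Lib.Cores.pCore_isPGroup 2 ⟨w, h2⟩).imp fun _ e => congrArg Subtype.val e

/-- averaging over the Weyl group of the label -/
theorem avg (h : NoA (rts D)) {c : Lb D.R} (hc : Isol (rts D) c) (v : Vec D.R) :
    ∃ (j : ℕ) (z : Vec D.R), Perp (rts D) z ∧ z - 2 ^ j • v ∈ Qv (rts D) ∧ chr z c = chr v c ^ 2 ^ j := by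
  have := Fact.mk Nat.prime_two
  let H := Subgroup.closure (D.rf '' {b | D.Rt b ∧ (D.wt b, D.cor b) ∈ Zc (rts D) c})
  have := Fintype.ofFinite H
  obtain ⟨j, hj⟩ := IsPGroup.iff_card.1 ((two_W h).to_subgroup H)
  rw [Nat.card_eq_fintype_card] at hj
  refine ⟨j, ∑ u : H, D.Wm u *ᵥ v, hc _ ?_, ?_, ?_⟩
  · rintro _ ⟨⟨a, ha, rfl⟩, h1⟩
    have h2 := Equiv.sum_comp (Equiv.mulLeft (⟨D.rf a, Subgroup.subset_closure ⟨a, ⟨ha, rt_mem ha, h1⟩, rfl⟩⟩ : H))
      fun u => D.Wm u *ᵥ v
    simp only [Equiv.coe_mulLeft, Subgroup.coe_mul, D.Wm_mul, ← mulVec_mulVec, ← mulVec_sum] at h2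
    rw [← rfm_eq ha, rfm_vec, sub_eq_self] at h2
    have h3 := congrArg (D.wt a ⬝ᵥ ·) h2
    simp only [dotProduct_smul, rt_two (rt_mem ha), dotProduct_zero, smul_eq_mul] at h3
    exact (mul_eq_zero.1 h3).resolve_right two_ne_zero
  · rw [← hj, ← Finset.card_univ, ← Finset.sum_const, ← Finset.sum_sub_distrib]
    exact sum_mem fun u _ => Qv.sub (Wm_mem _) v
  · rw [chr_sum, ← hj, ← Finset.card_univ, ← Finset.prod_const]
    exact Finset.prod_congr rfl fun u _ => tl_of_cor (Ψ := Zc (rts D) c) (fun _ e => e.2)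
      ((mem_WW_sub (Zc_sub _ _)).2 ⟨u, u.2, rfl⟩) v

end Tr23

open Tr23

variable (D) in
/-- **components `A₁` and `B₂` in characteristic two** -/
theorem boxTr : BoxTr D := by
  rintro rfl h c c' ⟨n, hn, h1⟩ ⟨n', hn', h1'⟩ hc hc' e
  refine ⟨1, one_mem _, fun v => ?_⟩
  obtain ⟨j, z, a1, a2, a3⟩ := avg h hc v
  obtain ⟨j', z', b1, b2, b3⟩ := avg h hc' v
  have h2 : 2 ^ j' • z - 2 ^ j • z' = 0 := Qv.eq_zero (by
      have h2 := sub_mem (nsmul_mem a2 (2 ^ j')) (nsmul_mem b2 (2 ^ j))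
      rwa [smul_sub, smul_sub, smul_comm (2 ^ j') (2 ^ j) v, sub_sub_sub_cancel_right] at h2)
    fun a ha => by rw [dotProduct_sub, dotProduct_smul, dotProduct_smul, a1 a ha, b1 a ha, smul_zero, smul_zero, sub_self]
  have h3 := congrArg (fun x => chr x c) (sub_eq_zero.1 h2)
  simp only [chr_nsmul] at h3
  rw [← e z' b1, a3, b3, ← pow_mul, ← pow_mul, mul_comm (2 ^ j'), ← pow_add] at h3
  have h4 : ∀ x : Lb D.R, x ^ (n * n') = 1 → chr v x ^ (n * n') = 1 := fun x hx => by rw [← map_pow, hx, map_one]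
  have h5 : (chr v c' / chr v c) ^ (n * n') = 1 := by
    rw [div_pow, h4 c (by rw [pow_mul, h1, one_pow]), h4 c' (by rw [mul_comm, pow_mul, h1', one_pow]), div_one]
  have h6 : (chr v c' / chr v c) ^ 2 ^ (j + j') = 1 := by rw [div_pow, h3, div_self']
  rw [one_mulVec, ← div_eq_one, ← orderOf_eq_one_iff]
  exact Nat.eq_one_of_dvd_coprimes (Nat.Coprime.pow_left _ (Nat.prime_two.coprime_iff_not_dvd.2
    fun e => (Nat.prime_two.dvd_mul.1 e).elim hn hn')) (orderOf_dvd_of_pow_eq_one h6) (orderOf_dvd_of_pow_eq_one h5)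

end Cfsg.Agent.OM.On
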